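import Mathlib.RingTheory.LocalRing.ResidueField.Ideal
import Mathlib.RingTheory.Spectrum.Prime.Topology
import Mathlib.RingTheory.MvPolynomial.Basic
import Mathlib.RingTheory.TensorProduct.Maps
import Mathlib.RingTheory.Flat.FaithfullyFlat.Basic

/-!
The image of a basic open in a tensor product is pulled back from the image of the basic open of a
linear form.
-/

set_option autoImplicit false
set_option linter.style.haveILetI false

universe u

open scoped TensorProduct

namespace Groth.Agent.H56.UOpen

/-- The image in `Spec B` of `D(∑ aᵢ ⊗ bᵢ)` is the preimage of the image in `Spec R[X]` of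
`D(∑ aᵢ Xᵢ)` under `Xᵢ ↦ bᵢ`. -/
theorem image_basicOpen_eq (R A B : Type u) [CommRing R] [CommRing A] [CommRing B]
    [Algebra R A] [Algebra R B] {σ : Type*} [Fintype σ] (a : σ → A) (b : σ → B) :
    PrimeSpectrum.comap
        (Algebra.TensorProduct.includeRight : B →ₐ[R] TensorProduct R A B).toRingHom ''
      (PrimeSpectrum.basicOpen (∑ i, a i ⊗ₜ[R] b i) : Set (PrimeSpectrum (TensorProduct R A B))) =
    PrimeSpectrum.comap (MvPolynomial.aeval b : MvPolynomial σ R →ₐ[R] B).toRingHom ⁻¹'
      (PrimeSpectrum.comap (MvPolynomial.map (σ := σ) (algebraMap R A)) ''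
        (PrimeSpectrum.basicOpen (∑ i, MvPolynomial.X i * MvPolynomial.C (a i)) : Set _)) := by
  let τ : MvPolynomial σ R →+* B := (MvPolynomial.aeval b).toRingHom
  let φ := MvPolynomial.map (σ := σ) (algebraMap R A)
  let χ : MvPolynomial σ A →+* TensorProduct R A B :=
    MvPolynomial.eval₂Hom Algebra.TensorProduct.includeLeftRingHom fun i => (1 : A) ⊗ₜ[R] b i
  let h₀ : MvPolynomial σ A := ∑ i, MvPolynomial.X i * MvPolynomial.C (a i)
  have hh₀ : χ h₀ = ∑ i, a i ⊗ₜ[R] b i := by
    simp [χ, h₀, Algebra.TensorProduct.tmul_mul_tmul]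
  have hcomm : χ.comp φ =
      (Algebra.TensorProduct.includeRight : B →ₐ[R] TensorProduct R A B).toRingHom.comp τ := by
    refine MvPolynomial.ringHom_ext (fun r => ?_) fun i => ?_
    · simp [χ, φ, τ, Algebra.TensorProduct.algebraMap_apply]
    · simp [χ, φ, τ]
  rw [← hh₀]
  show _ = PrimeSpectrum.comap τ ⁻¹' (PrimeSpectrum.comap φ '' (PrimeSpectrum.basicOpen h₀ : Set _))
  ext p
  constructor
  · rintro ⟨q, hq, rfl⟩
    refine ⟨PrimeSpectrum.comap χ q, ?_, ?_⟩
    · show χ h₀ ∉ q.asIdeal
      exact hq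
    · rw [← PrimeSpectrum.comap_comp_apply, ← PrimeSpectrum.comap_comp_apply, hcomm]
  · rintro ⟨q₀, hq₀, hq₀p⟩
    let t := PrimeSpectrum.comap τ p
    have e1 : t.asIdeal = q₀.asIdeal.comap φ := (congrArg PrimeSpectrum.asIdeal hq₀p).symm
    let ι₁ : t.asIdeal.ResidueField →+* q₀.asIdeal.ResidueField :=
      Ideal.ResidueField.map t.asIdeal q₀.asIdeal φ e1
    let ι₂ : t.asIdeal.ResidueField →+* p.asIdeal.ResidueField :=
      Ideal.ResidueField.map t.asIdeal p.asIdeal τ rfl
    letI := ι₁.toAlgebra
    letI := ι₂.toAlgebra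
    let W := TensorProduct t.asIdeal.ResidueField q₀.asIdeal.ResidueField p.asIdeal.ResidueField
    obtain ⟨M, hM⟩ := Ideal.exists_maximal W
    let j₁ : MvPolynomial σ A →+* W ⧸ M :=
      (Ideal.Quotient.mk M).comp ((Algebra.TensorProduct.includeLeftRingHom).comp
        (algebraMap _ q₀.asIdeal.ResidueField))
    let j₂ : B →+* W ⧸ M :=
      (Ideal.Quotient.mk M).comp ((Algebra.TensorProduct.includeRight
        (R := t.asIdeal.ResidueField) (A := q₀.asIdeal.ResidueField)).toRingHom.comp
        (algebraMap _ p.asIdeal.ResidueField))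
    have hj : j₁.comp φ = j₂.comp τ := by
      ext x
      all_goals
        simp only [j₁, j₂, RingHom.comp_apply]
        congr 1
        rw [← Ideal.ResidueField.map_algebraMap t.asIdeal q₀.asIdeal φ e1,
          ← Ideal.ResidueField.map_algebraMap t.asIdeal p.asIdeal τ rfl]
        exact (Algebra.TensorProduct.includeLeft (R := t.asIdeal.ResidueField)).commutes _
          |>.trans ((Algebra.TensorProduct.includeRight
            (R := t.asIdeal.ResidueField)).commutes _).symm
    letI : Algebra R (W ⧸ M) := (j₂.comp (algebraMap R B)).toAlgebra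
    let f₁ : A →ₐ[R] W ⧸ M :=
      { j₁.comp MvPolynomial.C with
        commutes' := fun r => by
          have := RingHom.congr_fun hj (MvPolynomial.C r)
          simpa [φ, τ, RingHom.algebraMap_toAlgebra] using this }
    let f₂ : B →ₐ[R] W ⧸ M := { j₂ with commutes' := fun r => rfl }
    let Φ : TensorProduct R A B →ₐ[R] W ⧸ M :=
      Algebra.TensorProduct.productMap f₁ f₂
    have hΦ : Φ.toRingHom.comp χ = j₁ := by
      refine MvPolynomial.ringHom_ext (fun c => ?_) fun i => ?_
      · simp [χ, Φ, f₁]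
      · have := RingHom.congr_fun hj (MvPolynomial.X i)
        simp only [φ, τ, RingHom.comp_apply, MvPolynomial.map_X, AlgHom.toRingHom_eq_coe,
          RingHom.coe_coe, MvPolynomial.aeval_X] at this
        simp [χ, Φ, f₂, this]
    have : Field (W ⧸ M) := Ideal.Quotient.field M
    have hk1 : RingHom.ker j₁ = q₀.asIdeal := by
      refine le_antisymm (fun x hx => ?_) fun x hx => ?_
      · by_contra hxq
        have hne : algebraMap _ q₀.asIdeal.ResidueField x ≠ 0 := fun h0 =>
          hxq (Ideal.algebraMap_residueField_eq_zero.mp h0)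
        exact hne ((map_eq_zero ((Ideal.Quotient.mk M).comp
          Algebra.TensorProduct.includeLeftRingHom)).mp hx)
      · simp [j₁, RingHom.mem_ker, Ideal.algebraMap_residueField_eq_zero.mpr hx]
    have hk2 : RingHom.ker j₂ = p.asIdeal := by
      refine le_antisymm (fun x hx => ?_) fun x hx => ?_
      · by_contra hxq
        have hne : algebraMap _ p.asIdeal.ResidueField x ≠ 0 := fun h0 =>
          hxq (Ideal.algebraMap_residueField_eq_zero.mp h0)
        exact hne ((map_eq_zero ((Ideal.Quotient.mk M).comp (Algebra.TensorProduct.includeRight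
          (R := t.asIdeal.ResidueField) (A := q₀.asIdeal.ResidueField)).toRingHom)).mp hx)
      · simp [j₂, RingHom.mem_ker, Ideal.algebraMap_residueField_eq_zero.mpr hx]
    refine ⟨⟨RingHom.ker Φ.toRingHom, RingHom.ker_isPrime _⟩, ?_, ?_⟩
    · show χ h₀ ∉ RingHom.ker Φ.toRingHom
      rw [RingHom.mem_ker, ← RingHom.comp_apply, hΦ, ← RingHom.mem_ker, hk1]
      exact hq₀
    · refine PrimeSpectrum.ext (Eq.trans ?_ hk2)
      ext x
      simp [RingHom.mem_ker, Φ, f₂]

end Groth.Agent.H56.UOpen
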