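import Groth.Agent.H56.UOpen.LinearForm
import Mathlib.RingTheory.TensorProduct.MvPolynomial
import Mathlib.AlgebraicGeometry.Morphisms.UniversallyOpen

/-!
Universal openness of `Spec B → Spec A` for a module-finite `B` through one linear form.
-/

set_option autoImplicit false

universe u

open scoped TensorProduct
open CategoryTheory AlgebraicGeometry

namespace Groth.Agent.H56.UOpen

variable (A B : Type u) [CommRing A] [CommRing B] [Algebra A B]

/-- `comap` of `MvPolynomial.map` differs from that of the base change by a homeomorphism. -/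
theorem isOpenMap_comap_map_iff (σ : Type*) :
    IsOpenMap (PrimeSpectrum.comap (MvPolynomial.map (σ := σ) (algebraMap A B))) ↔
      IsOpenMap (PrimeSpectrum.comap (Algebra.TensorProduct.includeRight :
        MvPolynomial σ A →ₐ[A] B ⊗[A] MvPolynomial σ A).toRingHom) := by
  let e := (MvPolynomial.algebraTensorAlgEquiv A B (σ := σ)).toRingEquiv
  have hcomp : MvPolynomial.map (σ := σ) (algebraMap A B) = e.toRingHom.comp
      (Algebra.TensorProduct.includeRight :
        MvPolynomial σ A →ₐ[A] B ⊗[A] MvPolynomial σ A).toRingHom :=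
    RingHom.ext fun p => by simp [e]
  have hh := PrimeSpectrum.isHomeomorph_comap_of_bijective (f := e.toRingHom) e.bijective
  rw [hcomp]
  refine ⟨fun h U hU => ?_, fun h => ?_⟩
  · rw [← Set.image_preimage_eq U hh.surjective, Set.image_image]
    simp only [← PrimeSpectrum.comap_comp_apply]
    exact h _ (hU.preimage hh.continuous)
  · intro U hU
    have := h _ (hh.isOpenMap U hU)
    rw [Set.image_image] at this
    simpa only [← PrimeSpectrum.comap_comp_apply] using this

/-- Universal openness gives openness of every ring base change. -/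
theorem isOpenMap_includeRight_of_universallyOpen
    [UniversallyOpen (Spec.map (CommRingCat.ofHom (algebraMap A B)))]
    (C : Type u) [CommRing C] [Algebra A C] :
    IsOpenMap (PrimeSpectrum.comap
      (Algebra.TensorProduct.includeRight : C →ₐ[A] B ⊗[A] C).toRingHom) := by
  have h : UniversallyOpen (Spec.map (CommRingCat.ofHom
      (Algebra.TensorProduct.includeRight : C →ₐ[A] B ⊗[A] C).toRingHom)) := by
    have h0 : UniversallyOpen ((pullbackSpecIso A B C).inv ≫ Limits.pullback.snd _ _) := inferInstance
    rw [pullbackSpecIso_inv_snd] at h0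
    exact h0
  exact h.universally_isOpenMap _ _ _ IsPullback.of_id_snd

variable {A B} in
/-- Openness of the image of `D(∑ Xᵢ bᵢ)` gives openness of every ring base change. -/
theorem isOpenMap_includeRight_of_isOpen_image {σ : Type*} [Fintype σ] (b : σ → B)
    (hb : Submodule.span A (Set.range b) = ⊤)
    (h : IsOpen (PrimeSpectrum.comap (MvPolynomial.map (σ := σ) (algebraMap A B)) ''
      (PrimeSpectrum.basicOpen (∑ i, MvPolynomial.X i * MvPolynomial.C (b i)) :
        Set (PrimeSpectrum (MvPolynomial σ B)))))
    (C : Type u) [CommRing C] [Algebra A C] :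
    IsOpenMap (PrimeSpectrum.comap
      (Algebra.TensorProduct.includeRight : C →ₐ[A] B ⊗[A] C).toRingHom) := by
  classical
  rw [PrimeSpectrum.isBasis_basic_opens.isOpenMap_iff]
  rintro _ ⟨_, ⟨z, rfl⟩, rfl⟩
  obtain ⟨c, rfl⟩ : ∃ c : σ → C, z = ∑ i, b i ⊗ₜ[A] c i := by
    induction z with
    | zero => exact ⟨0, by simp⟩
    | add x y hx hy =>
      obtain ⟨c, rfl⟩ := hx
      obtain ⟨d, rfl⟩ := hy
      exact ⟨c + d, by simp [TensorProduct.tmul_add, Finset.sum_add_distrib]⟩
    | tmul x y =>
      have hx : x ∈ Submodule.span A (Set.range b) := hb ▸ Submodule.mem_top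
      obtain ⟨r, rfl⟩ := (Submodule.mem_span_range_iff_exists_fun A).mp hx
      exact ⟨fun i => r i • y, by simp [TensorProduct.sum_tmul, TensorProduct.smul_tmul]⟩
  rw [image_basicOpen_eq]
  exact h.preimage (PrimeSpectrum.continuous_comap _)

end Groth.Agent.H56.UOpen
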